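import Groth.Agent.SpPts86.ResTrdeg
import Groth.Agent.SpPts86.RelDim
import Groth.Agent.SpPts86.DecentPts
import Groth.Agent.SpFP87.QsDecent
import Groth.Agent.SpFP87.Decent
import Groth.Prelude.Def_StCurv2
import Groth.Prelude.Def_EssDim
import Mathlib.RingTheory.AlgebraicIndependent.Transcendental

/-!
Field points of quasi-separated spaces of bounded relative dimension over a field extension descend to
subfields of bounded transcendence degree.
-/

set_option autoImplicit false
set_option linter.style.haveILetI false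

noncomputable section

universe u

open CategoryTheory CategoryTheory.Limits AlgebraicGeometry Opposite
open AlgSp Groth.Agent.SpFP87 Groth.Agent.SpPts86

namespace Groth.Agent.EssDimR99

variable {k : Type u} [Field k]

/-- The algebra structure on the field of a point over the base field. -/
@[reducible] def algOf {A : Type u} [Field A] (str : Spec (CommRingCat.of A) ⟶ Spec (CommRingCat.of k)) :
    Algebra k A :=
  (Spec.preimage str).hom.toAlgebra

theorem resTrdeg_comp_le {A B C : Scheme.{u}} (h : A ⟶ B) (g : B ⟶ C) [LocallyOfFiniteType h] (x : A)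
    (d : ℕ) (hd : FlatMor.fibreDimAt h x ≤ (d : WithBot ℕ∞)) :
    Dual3.resTrdeg (h ≫ g) x ≤ Dual3.resTrdeg g (h x) + (d : Cardinal.{u}) := by
  rw [resTrdeg_comp, add_comm]
  refine add_le_add le_rfl ?_
  rw [resTrdeg_eq_fdeg]
  have := (E4O.fdeg_le_fibreDimAt (f := h) specializes_rfl rfl).trans hd
  exact Nat.cast_le.2 (Nat.cast_le.1 this)

theorem resTrdeg_etale {A B : Scheme.{u}} (h : A ⟶ B) [Etale h] (x : A) : Dual3.resTrdeg h x = 0 := by
  haveI := SpFP87.etale_locallyQuasiFinite h ‹_›
  rw [resTrdeg_eq_fdeg, fdeg_eq_zero_of_fibreDimAt h specializes_rfl rfl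
    (fibreDimAt_eq_zero_of_lqf h x), Nat.cast_zero]

theorem isIso_fromSpecResidueField {A : Type u} [Field A] (z : ↥(Spec (CommRingCat.of A))) :
    IsIso ((Spec (CommRingCat.of A)).fromSpecResidueField z) := by
  haveI : Nonempty ↥(Spec ((Spec (CommRingCat.of A)).residueField z)) :=
    ⟨IsLocalRing.closedPoint ((Spec (CommRingCat.of A)).residueField z)⟩
  exact isIso_of_mono_spec_field _

theorem isIso_of_specMap {R S : CommRingCat.{u}} (φ : R ⟶ S) [h : IsIso (Spec.map φ)] : IsIso φ :=
  haveI : IsIso (Scheme.Spec.map φ.op) := h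
  haveI := isIso_of_reflects_iso φ.op Scheme.Spec
  (isIso_op_iff φ).1 this

/-- Transcendence degree of a residue field over the base field. -/
theorem trdeg_residueField {X : Scheme.{u}} (g : X ⟶ Spec (CommRingCat.of k)) (x : X) :
    letI : Algebra k (X.residueField x) := algOf (A := X.residueField x) (X.fromSpecResidueField x ≫ g)
    Algebra.trdeg k (X.residueField x) = Dual3.resTrdeg g x := by
  letI : Algebra k (X.residueField x) := algOf (A := X.residueField x) (X.fromSpecResidueField x ≫ g)
  let R := (Spec (CommRingCat.of k)).residueField (g x)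
  let M := X.residueField x
  let ι := Spec.preimage ((Spec (CommRingCat.of k)).fromSpecResidueField (g x))
  letI : Algebra k R := ι.hom.toAlgebra
  letI : Algebra R M := (g.residueFieldMap x).hom.toAlgebra
  haveI : IsScalarTower k R M := IsScalarTower.of_algebraMap_eq' (by
    change (Spec.preimage (X.fromSpecResidueField x ≫ g)).hom = _
    change _ = (ι ≫ g.residueFieldMap x).hom
    congr 1
    apply Spec.map_injective
    rw [Spec.map_preimage, Spec.map_comp, Spec.map_preimage]
    exact (g.SpecMap_residueFieldMap_fromSpecResidueField x).symm)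
  haveI := isIso_fromSpecResidueField (g x)
  haveI : IsIso (Spec.map ι) := by rw [Spec.map_preimage]; infer_instance
  haveI : IsIso ι := isIso_of_specMap ι
  have h0 : Algebra.trdeg k R = 0 := by
    haveI : Algebra.IsAlgebraic k R := ⟨fun r => by
      obtain ⟨c, rfl⟩ := ((ConcreteCategory.isIso_iff_bijective ι).1 inferInstance).2 r
      exact isAlgebraic_algebraMap (R := k) (A := R) c⟩
    exact trdeg_eq_zero
  have h := trdeg_add_eq k R (A := M)
  rw [h0, zero_add] at h
  exact h.symm

theorem resTrdeg_specField (K : Type u) [Field K] [Algebra k K] (z : ↥(SGA7.pt (K := k) K).left) :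
    Dual3.resTrdeg (SGA7.pt (K := k) K).hom z = Algebra.trdeg k K := by
  let T := (SGA7.pt (K := k) K)
  rw [← trdeg_residueField T.hom z]
  letI : Algebra k (T.left.residueField z) :=
    algOf (A := T.left.residueField z) (T.left.fromSpecResidueField z ≫ T.hom)
  let ι := Spec.preimage ((Spec (CommRingCat.of K)).fromSpecResidueField z)
  haveI := isIso_fromSpecResidueField (A := K) z
  haveI : IsIso (Spec.map ι) := by rw [Spec.map_preimage]; infer_instance
  haveI : IsIso ι := isIso_of_specMap ι
  have hb := (ConcreteCategory.isIso_iff_bijective ι).1 inferInstance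
  let e : K →ₐ[k] T.left.residueField z :=
    { (ι.hom : K →+* T.left.residueField z) with
      commutes' := fun c => by
        change (CommRingCat.ofHom (algebraMap k K) ≫ ι).hom c =
          (Spec.preimage (T.left.fromSpecResidueField z ≫ T.hom)).hom c
        congr 2
        apply Spec.map_injective
        rw [Spec.map_preimage, Spec.map_comp, Spec.map_preimage]
        rfl }
  exact ((AlgEquiv.ofBijective e (show Function.Bijective e from hb)).trdeg_eq).symm

variable {Z : AlgSp.Sp (Spec (CommRingCat.of k))}

/-- Field points agreeing with a monomorphic representable one factor through it. -/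
theorem exists_fac {p q : FieldPt Z} [Mono p.toHom] (hp : Representable p.toHom)
    (h : Points.mk q = Points.mk p) :
    ∃ g : q.pt ⟶ p.pt, (yon _).map g ≫ p.toHom = q.toHom := by
  obtain ⟨V, snd, fst, sq⟩ := hp q.toHom
  obtain ⟨ψ, rfl⟩ := (yon _).map_surjective fst
  obtain ⟨v, -, -⟩ := exists_pt_of_isPullback' sq (IsLocalRing.closedPoint p.K)
    (IsLocalRing.closedPoint q.K) ((Points.ofPt_toHom p _).trans (h.symm.trans (Points.ofPt_toHom q _).symm))
  have : Nonempty ↥V.left := ⟨v⟩
  have : Mono ((yon _).map snd) :=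
    MorphismProperty.of_isPullback (P := MorphismProperty.monomorphisms (Sp _)) sq ‹Mono p.toHom›
  have : Mono snd := (yon _).mono_of_mono_map (f := snd) ‹_›
  have : Mono snd.left := inferInstanceAs (Mono ((Over.forget _).map snd))
  have : IsIso snd.left := isIso_of_mono_spec_field (L := q.K) snd.left
  have : IsIso ((Over.forget _).map snd) := inferInstanceAs (IsIso snd.left)
  have : IsIso snd := isIso_of_reflects_iso snd (Over.forget _)
  refine ⟨inv snd ≫ ψ, ?_⟩
  rw [Functor.map_comp, Category.assoc, sq.w, ← Category.assoc, ← Functor.map_comp,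
    IsIso.inv_hom_id, CategoryTheory.Functor.map_id, Category.id_comp]

/-- A morphism of field points is given by a homomorphism of fields over the base. -/
def ofPtHom {A B : Type u} [Field A] [Field B] [Algebra k A] [Algebra k B]
    {s : Spec (CommRingCat.of A) ⟶ Spec (CommRingCat.of k)} {t : Spec (CommRingCat.of B) ⟶ Spec (CommRingCat.of k)}
    (hs : s = Spec.map (CommRingCat.ofHom (algebraMap k A))) (ht : t = Spec.map (CommRingCat.ofHom (algebraMap k B)))
    (g : Over.mk t ⟶ Over.mk s) : A →ₐ[k] B :=
  { (Spec.preimage g.left).hom with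
    commutes' := fun c => by
      change (CommRingCat.ofHom (algebraMap k A) ≫ Spec.preimage g.left).hom c =
        (CommRingCat.ofHom (algebraMap k B)).hom c
      congr 2
      apply Spec.map_injective
      rw [Spec.map_comp, Spec.map_preimage, ← hs, ← ht]
      exact Over.w g }

theorem specMap_ofPtHom {A B : Type u} [Field A] [Field B] [Algebra k A] [Algebra k B]
    {s : Spec (CommRingCat.of A) ⟶ Spec (CommRingCat.of k)} {t : Spec (CommRingCat.of B) ⟶ Spec (CommRingCat.of k)}
    (hs : s = Spec.map (CommRingCat.ofHom (algebraMap k A))) (ht : t = Spec.map (CommRingCat.ofHom (algebraMap k B)))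
    (g : Over.mk t ⟶ Over.mk s) :
    Spec.map (CommRingCat.ofHom (ofPtHom hs ht g : A →+* B)) = g.left :=
  Spec.map_preimage g.left

/-- A point over a field `L` of a quasi-separated space of relative dimension at most `d` over `Spec K` comes
from a subfield of transcendence degree at most `trdeg K + d`. -/
theorem exists_descend (hZ : IsAlgSpace Z) (K : Type u) [Field K] [Algebra k K]
    (π : Z ⟶ (yon _).obj (SGA7.pt (K := k) K)) (hlft : LocP @LocallyOfFiniteType π)
    (hqs : IsQuasiSeparatedMor π) (d : ℕ) (hd : CurvSt.RelDimLE d π)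
    (L : Type u) [Field L] [Algebra k L] (ξ : (yon _).obj (SGA7.pt (K := k) L) ⟶ Z) :
    ∃ (K' : IntermediateField k L) (ξ' : (yon _).obj (SGA7.pt (K := k) K') ⟶ Z),
      Algebra.trdeg k K' ≤ Algebra.trdeg k K + (d : Cardinal.{u}) ∧
        (yon _).map (EssDim.resPt K'.val) ≫ ξ' = ξ := by
  have hdec : IsDecent Z :=
    isDecent_of_isDecentMor π (isDecentMor_of_qs hZ (IsAlgSpace.yon_obj _) hqs) (isDecent_yon _)
  let q : FieldPt Z := ⟨L, Spec.map (CommRingCat.ofHom (algebraMap k L)), uE ξ⟩
  have hq : q.toHom = ξ := (uE (T := q.pt) (F := Z)).symm_apply_apply ξ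
  obtain ⟨p, hp, hpm, hpq⟩ := hdec (Points.mk q)
  letI : Algebra k p.K := algOf p.str
  have hps : p.str = Spec.map (CommRingCat.ofHom (algebraMap k p.K)) := (Spec.map_preimage p.str).symm
  obtain ⟨g, hg⟩ := exists_fac hpq.1 hp.symm
  let j : p.K →ₐ[k] L := ofPtHom hps rfl g
  -- the bound
  obtain ⟨U, V, a, b, h, u, ha, hb, hab, hu, hfd⟩ := hd (Points.mk q)
  obtain ⟨b', rfl⟩ := (yon _).map_surjective b
  haveI : Etale b'.left := (repWith_yon_map_iff _ _).1 hb
  haveI : LocallyOfFiniteType h.left := hlft a _ h ha hb hab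
  let q' : FieldPt Z := FieldPt.ofPt a u
  letI : Algebra k q'.K := algOf q'.str
  obtain ⟨g', -⟩ := exists_fac hpq.1 (q := q') (hu.trans hp.symm)
  let i : p.K →ₐ[k] q'.K := ofPtHom hps (Spec.map_preimage q'.str).symm g'
  have hle : Algebra.trdeg k p.K ≤ Algebra.trdeg k K + (d : Cardinal.{u}) := by
    refine (trdeg_le_of_injective i i.toRingHom.injective).trans ?_
    refine (trdeg_residueField U.hom u).trans_le ?_
    rw [← Over.w h]
    refine (resTrdeg_comp_le h.left V.hom u d hfd).trans (add_le_add ?_ le_rfl)
    rw [← Over.w b', resTrdeg_comp, resTrdeg_etale, zero_add, resTrdeg_specField]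
  -- the descended point
  let e : p.K ≃ₐ[k] j.fieldRange := AlgEquiv.ofInjectiveField j
  let ψ : SGA7.pt (K := k) j.fieldRange ⟶ p.pt :=
    EssDim.resPt (e : p.K →ₐ[k] j.fieldRange) ≫ Over.homMk (𝟙 _) (by
      change 𝟙 _ ≫ p.str = _
      rw [Category.id_comp]
      exact hps)
  refine ⟨j.fieldRange, (yon _).map ψ ≫ p.toHom, ?_, ?_⟩
  · exact ((e.trdeg_eq).symm.le).trans hle
  · rw [← Category.assoc, ← Functor.map_comp, ← hq, ← hg]
    congr 2
    apply Over.OverMorphism.ext
    change Spec.map _ ≫ Spec.map _ ≫ 𝟙 _ = g.left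
    rw [Category.comp_id, ← specMap_ofPtHom hps rfl g, ← Spec.map_comp]
    rfl

end Groth.Agent.EssDimR99
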