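import Groth.Agent.EssDimR99.Point
import Groth.Agent.AlgSt88.Fibred
import Groth.Agent.AlgSt88.EquivCrit
import Groth.Prelude.Def_AlgSt3

/-!
Essential dimension under morphisms of bounded relative dimension.
-/

set_option autoImplicit false
set_option linter.style.haveILetI false

noncomputable section

universe u

open CategoryTheory CategoryTheory.Limits AlgebraicGeometry Opposite
open AlgSp Groth.Agent.SpFP87 Groth.Agent.AlgSt88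

namespace Groth.Agent.EssDimR99

variable {k : Type u} [Field k]

/-- An object over `L` whose image descends to `K` descends to a subfield of transcendence degree at most
`trdeg K + d`. -/
theorem exists_descend_obj (𝒳 𝒴 : AlgSt.Cat (Spec (CommRingCat.of k)))
    [FibCat.IsFibGrpd 𝒳.p] [FibCat.IsFibGrpd 𝒴.p] (F : 𝒳 ⥤ᵇ 𝒴) (d : ℕ)
    (hF : AlgSt.RepByAlgSpWith
      (AlgSp.LocP @LocallyOfFiniteType ⊓ AlgSp.IsQuasiSeparatedMor ⊓ fun _ _ g => CurvSt.RelDimLE d g) F)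
    {L : Type u} [Field L] [Algebra k L] (x : StkCnt.pts 𝒳 L) (K : IntermediateField k L)
    (y₀ : StkCnt.pts 𝒴 K) (φ : F.obj x.1 ⟶ y₀.1) (hφ : 𝒴.p.IsHomLift (EssDim.resPt K.val) φ) :
    ∃ (K' : IntermediateField k L) (x₀ : StkCnt.pts 𝒳 K') (ψ : x.1 ⟶ x₀.1),
      Algebra.trdeg k K' ≤ Algebra.trdeg k K + (d : Cardinal.{u}) ∧
        𝒳.p.IsHomLift (EssDim.resPt K'.val) ψ := by
  haveI := hφ
  have hY : FibCat.IsFibGrpd 𝒴.p := inferInstance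
  let y := classify hY y₀.1 y₀.2
  obtain ⟨ε, hε⟩ := classify_mk_id hY y₀.1 y₀.2
  haveI := hε
  obtain ⟨Sp', e, he, ⟨hlft, hqs⟩, hd⟩ := hF (SGA7.pt (K := k) K) y
  -- the object of the fibre product over `L`
  let g₀ : Over (SGA7.pt (K := k) K) := Over.mk (EssDim.resPt K.val)
  let t : g₀ ⟶ Over.mk (𝟙 (SGA7.pt (K := k) K)) := Over.homMk (EssDim.resPt K.val)
  have ht : (FibCat.overCat (SGA7.pt (K := k) K)).p.IsHomLift (EssDim.resPt K.val) t :=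
    IsHomLift.map (FibCat.overCat (SGA7.pt (K := k) K)).p t
  haveI : 𝒴.p.IsHomLift (EssDim.resPt K.val) (y.map t) := BasedFunctor.preserves_isHomLift y _ t
  haveI hφ0 : 𝒴.p.IsHomLift (EssDim.resPt K.val) (y.map t ≫ ε.hom) := by
    have := IsHomLift.comp 𝒴.p (EssDim.resPt K.val) (𝟙 _) (y.map t) ε.hom
    rwa [Category.comp_id] at this
  have hs : 𝒴.p.obj (y.obj g₀) = SGA7.pt (K := k) L := y.w_obj g₀
  have ht' : 𝒴.p.obj (F.obj x.1) = SGA7.pt (K := k) L := (F.w_obj x.1).trans x.2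
  obtain ⟨χ, hχ1, -⟩ := fg_exists_fac hY φ (y.map t ≫ ε.hom) (eqToHom (hs.trans ht'.symm)) (by
    rw [IsHomLift.fac' 𝒴.p (EssDim.resPt K.val) φ, IsHomLift.fac' 𝒴.p (EssDim.resPt K.val) (y.map t ≫ ε.hom)]
    simp)
  haveI hχ : 𝒴.p.IsHomLift (𝟙 (SGA7.pt (K := k) L)) χ :=
    IsHomLift.of_fac' 𝒴.p (𝟙 (SGA7.pt (K := k) L)) χ hs ht' (by rw [hχ1]; simp)
  haveI : IsIso χ := fg_isIso_of_lift_id hY χ (SGA7.pt (K := k) L)
  let w : (FibCat.fp y F).obj :=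
    ⟨{ fst := g₀, snd := x.1, iso := asIso χ }, hχ⟩
  obtain ⟨z, ez, hez⟩ := (isEquivData_of_isEquivOver he).essSurj w
  haveI hez' : (FibCat.fp y F).p.IsHomLift (𝟙 (SGA7.pt (K := k) L)) ez.hom := hez
  have hb : z.base = SGA7.pt (K := k) L :=
    (e.w_obj z).symm.trans (IsHomLift.domain_eq (FibCat.fp y F).p (𝟙 _) ez.hom)
  obtain ⟨T, sec⟩ := z
  change T = _ at hb
  subst hb
  let ξ : (yon _).obj (SGA7.pt (K := k) L) ⟶ Sp'.obj := uE.symm sec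
  let π := AlgSt.spMapOfOver (BasedFunctor.comp e (FibCat.fpFst y F))
  obtain ⟨K', ξ', hle, hξ⟩ := exists_descend Sp'.property K π hlft hqs d hd L ξ
  let z' : (AlgSt.ofSp Sp'.obj).obj := ⟨SGA7.pt (K := k) K', uE ξ'⟩
  let f : (⟨SGA7.pt (K := k) L, sec⟩ : (AlgSt.ofSp Sp'.obj).obj) ⟶ z' := ⟨EssDim.resPt K'.val, by
    change Sp'.obj.obj.map (EssDim.resPt K'.val).op (uE ξ') = sec
    rw [GrothendieckTopology.uliftYonedaEquiv_naturality, hξ]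
    exact uE.apply_symm_apply sec⟩
  let G := BasedFunctor.comp e (FibCat.fpSnd y F)
  haveI : (AlgSt.ofSp Sp'.obj).p.IsHomLift (EssDim.resPt K'.val) f :=
    IsHomLift.map (AlgSt.ofSp Sp'.obj).p f
  haveI : 𝒳.p.IsHomLift (EssDim.resPt K'.val) (G.map f) := BasedFunctor.preserves_isHomLift G _ f
  haveI : (FibCat.fp y F).p.IsHomLift (𝟙 (SGA7.pt (K := k) L)) ez.inv :=
    IsHomLift.lift_id_inv (FibCat.fp y F).p (SGA7.pt (K := k) L) ez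
  haveI : 𝒳.p.IsHomLift (𝟙 (SGA7.pt (K := k) L)) ((FibCat.fpSnd y F).map ez.inv) :=
    BasedFunctor.preserves_isHomLift (FibCat.fpSnd y F) _ ez.inv
  refine ⟨K', ⟨G.obj z', G.w_obj z'⟩, (FibCat.fpSnd y F).map ez.inv ≫ G.map f, hle, ?_⟩
  have := @IsHomLift.comp _ _ _ _ 𝒳.p _ _ _ _ _ _ (𝟙 (SGA7.pt (K := k) L)) (EssDim.resPt K'.val)
    ((FibCat.fpSnd y F).map ez.inv) (G.map f) ‹_› ‹_›
  rwa [Category.id_comp] at this

theorem edStAt_le (𝒳 𝒴 : AlgSt.Cat (Spec (CommRingCat.of k)))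
    [FibCat.IsFibGrpd 𝒳.p] [FibCat.IsFibGrpd 𝒴.p] (F : 𝒳 ⥤ᵇ 𝒴) (d : ℕ)
    (hF : AlgSt.RepByAlgSpWith
      (AlgSp.LocP @LocallyOfFiniteType ⊓ AlgSp.IsQuasiSeparatedMor ⊓ fun _ _ g => CurvSt.RelDimLE d g) F)
    (L : Type u) [Field L] [Algebra k L] (x : StkCnt.pts 𝒳 L) :
    EssDim.edStAt 𝒳 x ≤ EssDim.edStAt 𝒴 ⟨F.obj x.1, (F.w_obj x.1).trans x.2⟩ + d := by
  haveI : Nonempty {K : IntermediateField k L //
      EssDim.Descends (Gerb.isoClPsh 𝒴) (Quot.mk (Gerb.IsoRel 𝒴 (SGA7.pt (K := k) L))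
        (⟨F.obj x.1, (F.w_obj x.1).trans x.2⟩ : StkCnt.pts 𝒴 L)) K} := ⟨⟨⊤, EssDim.descends_top _⟩⟩
  conv_rhs => rw [EssDim.edStAt, EssDim.edAt, ENat.iInf_add]
  refine le_iInf fun ⟨K, hK⟩ => ?_
  obtain ⟨y₀, φ, hφ⟩ := (EssDim.descends_isoCl_iff 𝒴 _ K).1 hK
  obtain ⟨K', x₀, ψ, hle, hψ⟩ := exists_descend_obj 𝒳 𝒴 F d hF x K y₀ φ hφ
  refine (EssDim.edAt_le_of_descends ((EssDim.descends_isoCl_iff 𝒳 x K').2 ⟨x₀, ψ, hψ⟩)).trans ?_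
  refine (OrderHomClass.mono _ hle).trans_eq ?_
  rw [map_add, map_natCast]

theorem edSt_le (𝒳 𝒴 : AlgSt.Cat (Spec (CommRingCat.of k)))
    [FibCat.IsFibGrpd 𝒳.p] [FibCat.IsFibGrpd 𝒴.p] (F : 𝒳 ⥤ᵇ 𝒴) (d : ℕ)
    (hF : AlgSt.RepByAlgSpWith
      (AlgSp.LocP @LocallyOfFiniteType ⊓ AlgSp.IsQuasiSeparatedMor ⊓ fun _ _ g => CurvSt.RelDimLE d g) F) :
    EssDim.edSt 𝒳 ≤ EssDim.edSt 𝒴 + ((d : ℕ) : WithBot ℕ∞) := by
  refine iSup_le fun L => iSup_le fun _ => iSup_le fun _ => iSup_le fun ξ => ?_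
  induction ξ using Quot.ind with
  | mk x =>
    refine le_trans (WithBot.coe_le_coe.mpr (edStAt_le 𝒳 𝒴 F d hF L x)) ?_
    rw [WithBot.coe_add]
    exact add_le_add (EssDim.edAt_le_ed (P := Gerb.isoClPsh 𝒴) _) le_rfl

end Groth.Agent.EssDimR99
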